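import Mathlib

universe u

open TensorProduct

namespace Groth.Agent.Lib.Helper5.NilFP

section general
variable {A : Type*} [CommRing A]

/-- nilpotent Nakayama for submodules. -/
theorem le_of_le_sup_smul_of_isNilpotent {M : Type*} [AddCommGroup M] [Module A M]
    (n : Ideal A) (hn : IsNilpotent n) (N N' : Submodule A M) (h : N ≤ N' ⊔ n • N) : N ≤ N' := by
  obtain ⟨k, hk⟩ := hn
  have key : ∀ j : ℕ, N ≤ N' ⊔ n ^ j • N := by
    intro j
    induction j with
    | zero => rw [pow_zero, Ideal.one_eq_top, Submodule.top_smul]; exact le_sup_right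
    | succ j ih =>
      refine ih.trans (sup_le le_sup_left ?_)
      calc n ^ j • N ≤ n ^ j • (N' ⊔ n • N) := Submodule.smul_mono le_rfl h
        _ = n ^ j • N' ⊔ n ^ j • (n • N) := Submodule.smul_sup _ _ _
        _ ≤ N' ⊔ n ^ (j + 1) • N := by
          refine sup_le_sup Submodule.smul_le_right ?_
          rw [← Submodule.mul_smul, ← pow_succ]
  have := key k
  rw [hk, Ideal.zero_eq_bot, Submodule.bot_smul, sup_bot_eq] at this
  exact this

/-- If `P → C` is a surjection onto a flat module with kernel `K`, then `K ∩ nP = nK`. -/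
theorem ker_inf_smul_top_le {P C : Type*} [AddCommGroup P] [Module A P]
    [AddCommGroup C] [Module A C] [Module.Flat A C]
    (f : P →ₗ[A] C) (hf : Function.Surjective f) (n : Ideal A) :
    LinearMap.ker f ⊓ n • (⊤ : Submodule A P) ≤ n • LinearMap.ker f := by
  set K := LinearMap.ker f with hK
  have hinj : Function.Injective (K.subtype.lTensor (A ⧸ n)) := by
    refine lTensor_injective_of_exact_of_exact_of_rTensor_injective
      (f₁ := (n.subtype : n →ₗ[A] A)) (f₂ := (Submodule.mkQ n : A →ₗ[A] A ⧸ n))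
      (g₁ := K.subtype) (g₂ := f) ?_ ?_ ?_ hf ?_ ?_
    · exact LinearMap.exact_subtype_mkQ n
    · exact Submodule.mkQ_surjective n
    · exact LinearMap.exact_subtype_ker_map f
    · exact Module.Flat.rTensor_preserves_injective_linearMap _ Subtype.val_injective
    · exact Module.Flat.lTensor_preserves_injective_linearMap _ Subtype.val_injective
  rintro x ⟨hxK, hxn⟩
  let xK : K := ⟨x, hxK⟩
  have h1 : (K.subtype.lTensor (A ⧸ n)) ((Ideal.Quotient.mk n 1) ⊗ₜ[A] xK) = 0 := by
    rw [LinearMap.lTensor_tmul]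
    apply (TensorProduct.quotTensorEquivQuotSMul P n).injective
    rw [map_zero, TensorProduct.quotTensorEquivQuotSMul_mk_tmul, one_smul]
    exact (Submodule.Quotient.mk_eq_zero _).2 hxn
  have h2 : (Ideal.Quotient.mk n 1) ⊗ₜ[A] xK = 0 := hinj (by rw [h1, map_zero])
  have h3 := congrArg (TensorProduct.quotTensorEquivQuotSMul K n) h2
  rw [map_zero, TensorProduct.quotTensorEquivQuotSMul_mk_tmul, one_smul,
    Submodule.Quotient.mk_eq_zero] at h3
  have h4 : x ∈ (n • (⊤ : Submodule A K)).map K.subtype := ⟨xK, h3, rfl⟩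
  rwa [Submodule.map_smul'', Submodule.map_subtype_top] at h4

end general


section main
variable (A B C : Type u) [CommRing A] [CommRing B] [CommRing C]
    [Algebra A B] [Algebra B C] [Algebra A C] [IsScalarTower A B C] (n : Ideal A)

theorem nC_eq : (n.map (algebraMap A B)).map (algebraMap B C) = n.map (algebraMap A C) := by
  rw [Ideal.map_map, ← IsScalarTower.algebraMap_eq]

theorem mem_smul_top_of_mk_eq_zero (z : C)
    (hz : Ideal.Quotient.mk ((n.map (algebraMap A B)).map (algebraMap B C)) z = 0) :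
    z ∈ n • (⊤ : Submodule A C) := by
  rw [Ideal.Quotient.eq_zero_iff_mem, nC_eq] at hz
  rw [Ideal.smul_top_eq_map]
  exact hz

variable {A B C n}

theorem compat {m : ℕ} (c : Fin m → C)
    (f : MvPolynomial (Fin m) (B ⧸ n.map (algebraMap A B)) →ₐ[B ⧸ n.map (algebraMap A B)]
      (C ⧸ (n.map (algebraMap A B)).map (algebraMap B C)))
    (hc : ∀ i, f (MvPolynomial.X i) = Ideal.Quotient.mk _ (c i)) (p : MvPolynomial (Fin m) B) :
    Ideal.Quotient.mk ((n.map (algebraMap A B)).map (algebraMap B C)) (MvPolynomial.aeval c p) =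
      f (MvPolynomial.map (Ideal.Quotient.mk (n.map (algebraMap A B))) p) := by
  induction p using MvPolynomial.induction_on with
  | C b =>
    rw [MvPolynomial.aeval_C, MvPolynomial.map_C]
    have : f (MvPolynomial.C (Ideal.Quotient.mk (n.map (algebraMap A B)) b)) =
        algebraMap (B ⧸ n.map (algebraMap A B)) (C ⧸ (n.map (algebraMap A B)).map (algebraMap B C))
          (Ideal.Quotient.mk (n.map (algebraMap A B)) b) := by
      rw [← MvPolynomial.algebraMap_eq, f.commutes]
    rw [this]
    rfl
  | add p q hp hq => rw [map_add, map_add, map_add, map_add, hp, hq]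
  | mul_X p i hp =>
    rw [map_mul, map_mul, map_mul, map_mul, hp, MvPolynomial.aeval_X, MvPolynomial.map_X, hc]

theorem ker_map_mk_eq (m : ℕ) :
    (RingHom.ker (MvPolynomial.map (σ := Fin m) (Ideal.Quotient.mk (n.map (algebraMap A B))))).restrictScalars A
      = n • (⊤ : Submodule A (MvPolynomial (Fin m) B)) := by
  rw [MvPolynomial.ker_map, Ideal.mk_ker, Ideal.smul_top_eq_map, ← MvPolynomial.algebraMap_eq,
    Ideal.map_map, ← IsScalarTower.algebraMap_eq]

/-- Surjectivity of a lift. -/
theorem aeval_surjective (hn : IsNilpotent n) {m : ℕ} (c : Fin m → C)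
    (f : MvPolynomial (Fin m) (B ⧸ n.map (algebraMap A B)) →ₐ[B ⧸ n.map (algebraMap A B)]
      (C ⧸ (n.map (algebraMap A B)).map (algebraMap B C)))
    (hf : Function.Surjective f)
    (hc : ∀ i, f (MvPolynomial.X i) = Ideal.Quotient.mk _ (c i)) :
    Function.Surjective (MvPolynomial.aeval c : MvPolynomial (Fin m) B →ₐ[B] C) := by
  let φA : MvPolynomial (Fin m) B →ₗ[A] C :=
    (MvPolynomial.aeval c : MvPolynomial (Fin m) B →ₐ[B] C).toLinearMap.restrictScalars A
  have htop : (⊤ : Submodule A C) ≤ LinearMap.range φA := by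
    apply le_of_le_sup_smul_of_isNilpotent n hn
    rintro c₀ -
    obtain ⟨pb, hpb⟩ := hf (Ideal.Quotient.mk _ c₀)
    obtain ⟨p, rfl⟩ := MvPolynomial.map_surjective _ Ideal.Quotient.mk_surjective pb
    have h0 : Ideal.Quotient.mk ((n.map (algebraMap A B)).map (algebraMap B C))
        (c₀ - MvPolynomial.aeval c p) = 0 := by
      rw [map_sub, compat c f hc, hpb, sub_self]
    have h1 := mem_smul_top_of_mk_eq_zero A B C n _ h0
    have : c₀ = φA p + (c₀ - MvPolynomial.aeval c p) := by
      show c₀ = MvPolynomial.aeval c p + (c₀ - MvPolynomial.aeval c p)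
      ring
    rw [this]
    exact Submodule.add_mem_sup ⟨p, rfl⟩ h1
  intro c₀
  obtain ⟨p, hp⟩ := htop (Submodule.mem_top (x := c₀))
  exact ⟨p, hp⟩

/-- existence of a compatible pair of presentations. -/
theorem exists_lift (hn : IsNilpotent n)
    (h : Algebra.FiniteType (B ⧸ n.map (algebraMap A B))
      (C ⧸ (n.map (algebraMap A B)).map (algebraMap B C))) :
    ∃ (m : ℕ) (c : Fin m → C)
      (f : MvPolynomial (Fin m) (B ⧸ n.map (algebraMap A B)) →ₐ[B ⧸ n.map (algebraMap A B)]
        (C ⧸ (n.map (algebraMap A B)).map (algebraMap B C))),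
      Function.Surjective f ∧ (∀ i, f (MvPolynomial.X i) = Ideal.Quotient.mk _ (c i)) ∧
      Function.Surjective (MvPolynomial.aeval c : MvPolynomial (Fin m) B →ₐ[B] C) := by
  obtain ⟨m, f, hf⟩ := Algebra.FiniteType.iff_quotient_mvPolynomial''.1 h
  choose c hc using fun i => Ideal.Quotient.mk_surjective (f (MvPolynomial.X i))
  exact ⟨m, c, f, hf, fun i => (hc i).symm, aeval_surjective hn c f hf fun i => (hc i).symm⟩

theorem part_one (hn : IsNilpotent n)
    (h : Algebra.FiniteType (B ⧸ n.map (algebraMap A B))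
      (C ⧸ (n.map (algebraMap A B)).map (algebraMap B C))) : Algebra.FiniteType B C := by
  obtain ⟨m, c, f, -, -, hsurj⟩ := exists_lift hn h
  exact Algebra.FiniteType.of_surjective (MvPolynomial.aeval c) hsurj

theorem part_two (hn : IsNilpotent n) [Module.Flat A C]
    (h : Algebra.FinitePresentation (B ⧸ n.map (algebraMap A B))
      (C ⧸ (n.map (algebraMap A B)).map (algebraMap B C))) : Algebra.FinitePresentation B C := by
  classical
  have hft : Algebra.FiniteType (B ⧸ n.map (algebraMap A B))
      (C ⧸ (n.map (algebraMap A B)).map (algebraMap B C)) := inferInstance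
  obtain ⟨m, c, f, hf, hc, hsurj⟩ := exists_lift hn hft
  set φ : MvPolynomial (Fin m) B →ₐ[B] C := MvPolynomial.aeval c with hφ
  set π := MvPolynomial.map (σ := Fin m) (Ideal.Quotient.mk (n.map (algebraMap A B))) with hπ
  have hπs : Function.Surjective π := MvPolynomial.map_surjective _ Ideal.Quotient.mk_surjective
  let φA : MvPolynomial (Fin m) B →ₗ[A] C := φ.toLinearMap.restrictScalars A
  have hφA : Function.Surjective φA := hsurj
  set K : Ideal (MvPolynomial (Fin m) B) := RingHom.ker φ.toRingHom with hK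
  have hKA : K.restrictScalars A = LinearMap.ker φA := by
    ext x; rfl
  have hkerπ : ∀ x, π x = 0 ↔ x ∈ n • (⊤ : Submodule A (MvPolynomial (Fin m) B)) := by
    intro x
    rw [← ker_map_mk_eq m]
    rfl
  -- kernel of `f` is finitely generated
  have hKb : (RingHom.ker f.toRingHom).FG :=
    Algebra.FinitePresentation.ker_fG_of_surjective f hf
  -- lifting elements of the kernel
  have hlift : ∀ qb ∈ RingHom.ker f.toRingHom, ∃ q ∈ K, π q = qb := by
    intro qb hqb
    obtain ⟨q, rfl⟩ := hπs qb
    have h0 : Ideal.Quotient.mk ((n.map (algebraMap A B)).map (algebraMap B C)) (φ q) = 0 := by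
      rw [hφ, compat c f hc]
      exact hqb
    have h1 : φA q ∈ n • (⊤ : Submodule A C) := mem_smul_top_of_mk_eq_zero A B C n _ h0
    have h2 : n • (⊤ : Submodule A C) =
        (n • (⊤ : Submodule A (MvPolynomial (Fin m) B))).map φA := by
      rw [Submodule.map_smul'', Submodule.map_top, LinearMap.range_eq_top.2 hφA]
    rw [h2] at h1
    obtain ⟨p, hp, hpq⟩ := h1
    refine ⟨q - p, ?_, ?_⟩
    · show φ (q - p) = 0
      rw [map_sub, sub_eq_zero]
      exact hpq.symm
    · rw [map_sub, (hkerπ p).2 hp, sub_zero]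
  obtain ⟨sb, hsb⟩ := hKb
  have hsbmem : ∀ y : ((sb : Set (MvPolynomial (Fin m) (B ⧸ n.map (algebraMap A B)))) : Type u),
      (y : MvPolynomial (Fin m) (B ⧸ n.map (algebraMap A B))) ∈ RingHom.ker f.toRingHom := by
    intro y
    rw [← hsb]
    exact Ideal.subset_span y.2
  choose g hgK hgπ using
    fun y : ((sb : Set (MvPolynomial (Fin m) (B ⧸ n.map (algebraMap A B)))) : Type u) =>
      hlift y.1 (hsbmem y)
  set K' : Ideal (MvPolynomial (Fin m) B) := Ideal.span (Set.range g) with hK'
  have hK'K : K' ≤ K := by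
    rw [hK', Ideal.span_le]
    rintro _ ⟨y, rfl⟩
    exact hgK y
  have hK'fg : K'.FG := by
    rw [hK']
    exact ⟨(Set.finite_range g).toFinset, by rw [Set.Finite.coe_toFinset]⟩
  have hmapK' : RingHom.ker f.toRingHom ≤ K'.map π := by
    rw [← hsb, Ideal.span_le]
    intro y hy
    have : y = π (g ⟨y, hy⟩) := (hgπ ⟨y, hy⟩).symm
    rw [this]
    exact Ideal.mem_map_of_mem _ (Ideal.subset_span ⟨⟨y, hy⟩, rfl⟩)
  have hle : K.restrictScalars A ≤ K'.restrictScalars A ⊔ n • K.restrictScalars A := by
    intro k hk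
    have hk' : k ∈ K := hk
    have h1 : π k ∈ RingHom.ker f.toRingHom := by
      show f (π k) = 0
      rw [hπ, ← compat c f hc]
      have : φ k = 0 := hk'
      rw [← hφ, this, map_zero]
    obtain ⟨k', hk'K', hk'π⟩ := (Ideal.mem_map_iff_of_surjective π hπs).1 (hmapK' h1)
    have h2 : k - k' ∈ LinearMap.ker φA ⊓ n • (⊤ : Submodule A (MvPolynomial (Fin m) B)) := by
      refine ⟨?_, ?_⟩
      · rw [← hKA]
        exact K.sub_mem hk' (hK'K hk'K')
      · refine (hkerπ (k - k')).1 ?_
        rw [map_sub, hk'π, sub_self]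
    have h3 := ker_inf_smul_top_le φA hφA n h2
    rw [← hKA] at h3
    have : k = k' + (k - k') := by ring
    rw [this]
    exact Submodule.add_mem_sup hk'K' h3
  have hKK' : K ≤ K' := le_of_le_sup_smul_of_isNilpotent n hn _ _ hle
  have hKeq : K = K' := le_antisymm hKK' hK'K
  have hKfg : K.FG := hKeq ▸ hK'fg
  exact Algebra.FinitePresentation.of_surjective (f := φ) hsurj hKfg

end main

theorem main (A B C : Type u) [CommRing A] [CommRing B] [CommRing C]
    [Algebra A B] [Algebra B C] [Algebra A C] [IsScalarTower A B C] (n : Ideal A) (hn : IsNilpotent n) :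
    (Algebra.FiniteType (B ⧸ n.map (algebraMap A B)) (C ⧸ (n.map (algebraMap A B)).map (algebraMap B C)) →
      Algebra.FiniteType B C) ∧
    (Module.Flat A C →
      Algebra.FinitePresentation (B ⧸ n.map (algebraMap A B)) (C ⧸ (n.map (algebraMap A B)).map (algebraMap B C)) →
      Algebra.FinitePresentation B C) :=
  ⟨fun h => part_one hn h, fun _ h => part_two hn h⟩

end Groth.Agent.Lib.Helper5.NilFP
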